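import Mathlib
import Cfsg.Agent.Solvable.Basic

/-!
# Two `p`-elements generating a non-solvable group with product not a `p`-element

Definitions and elementary criteria used for alternating groups.
-/

namespace CfsgLib.AltFreePair

open Equiv

variable {G : Type*} [Group G]

/-- The product is not a `p`-element and the generated group is not solvable. -/
def Good (p : ℕ) (u w : G) : Prop :=
  (∀ k : ℕ, (u * w) ^ p ^ k ≠ 1) ∧ ¬ Group.IsSolvable ↥(Subgroup.closure ({u, w} : Set G))

theorem eq_one_of_two_three_five {H : Type*} [CommGroup H] {a b : H} (ha : a ^ 2 = 1)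
    (hb : b ^ 3 = 1) (hab : (a * b) ^ 5 = 1) : a = 1 ∧ b = 1 := by
  have h1 : a ^ 5 * b ^ 5 = 1 := by rw [← mul_pow, hab]
  have h2 : a ^ 5 = a := by
    calc a ^ 5 = (a ^ 2) ^ 2 * a := by group
      _ = a := by rw [ha, one_pow, one_mul]
  have h3 : b ^ 5 = b ^ 2 := by
    calc b ^ 5 = b ^ 3 * b ^ 2 := by group
      _ = b ^ 2 := by rw [hb, one_mul]
  rw [h2, h3] at h1
  have h4 : b = a⁻¹ ^ 1 := by
    have : a * b ^ 2 * b = b := by rw [h1, one_mul]
    rw [mul_assoc, ← pow_succ, hb, mul_one] at this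
    have h5 : a * a = 1 := by rw [← pow_two, ha]
    rw [pow_one, ← this]
    exact eq_inv_of_mul_eq_one_left h5
  rw [pow_one] at h4
  have h6 : a⁻¹ ^ 3 = 1 := by rw [← h4, hb]
  have h7 : a = 1 := by
    have : a ^ 3 = 1 := by rwa [inv_pow, inv_eq_one] at h6
    rwa [pow_succ, ha, one_mul] at this
  exact ⟨h7, by rw [h4, h7, inv_one]⟩

/-- A solvable group contains no non-trivial `(2,3,5)`-pair. -/
theorem not_isSolvable_of_two_three_five [Finite G] {K : Subgroup G} {a b : G} (haK : a ∈ K)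
    (hbK : b ∈ K) (ha : a ^ 2 = 1) (hb : b ^ 3 = 1) (hab : (a * b) ^ 5 = 1) (ha1 : a ≠ 1) :
    ¬ Group.IsSolvable ↥K := by
  intro hsol
  set A : ↥K := ⟨a, haK⟩
  set B : ↥K := ⟨b, hbK⟩
  have key : ∀ n : ℕ, A ∈ derivedSeries ↥K n ∧ B ∈ derivedSeries ↥K n := by
    intro n
    induction n with
    | zero => simp
    | succ n ih =>
      set D := derivedSeries ↥K n with hD
      set f : ↥D →* Abelianization ↥D := Abelianization.of
      have hA2 : (⟨A, ih.1⟩ : ↥D) ^ 2 = 1 := Subtype.ext (Subtype.ext ha)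
      have hB3 : (⟨B, ih.2⟩ : ↥D) ^ 3 = 1 := Subtype.ext (Subtype.ext hb)
      have hAB : ((⟨A, ih.1⟩ : ↥D) * ⟨B, ih.2⟩) ^ 5 = 1 := Subtype.ext (Subtype.ext hab)
      obtain ⟨h1, h2⟩ := eq_one_of_two_three_five (a := f ⟨A, ih.1⟩) (b := f ⟨B, ih.2⟩)
        (by rw [← map_pow, hA2, map_one]) (by rw [← map_pow, hB3, map_one])
        (by rw [← map_mul, ← map_pow, hAB, map_one])
      have hker : ∀ x : ↥D, f x = 1 → (x : ↥K) ∈ derivedSeries ↥K (n + 1) := by
        intro x hx
        have hx' : x ∈ commutator ↥D := by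
          rw [← Abelianization.ker_of]; exact hx
        rw [derivedSeries_succ, ← Subgroup.map_subtype_commutator]
        exact ⟨x, hx', rfl⟩
      exact ⟨hker _ h1, hker _ h2⟩
  obtain ⟨n, hn⟩ := hsol.solvable
  have := (key n).1
  rw [hn, Subgroup.mem_bot] at this
  exact ha1 (congrArg Subtype.val this)

theorem good_of_words [Finite G] {p : ℕ} {u w a b : G} {m : ℕ} (hm : Nat.Coprime m p)
    (huwm : (u * w) ^ m = 1) (huw1 : u * w ≠ 1)
    (haK : a ∈ Subgroup.closure ({u, w} : Set G)) (hbK : b ∈ Subgroup.closure ({u, w} : Set G))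
    (ha : a ^ 2 = 1) (hb : b ^ 3 = 1) (hab : (a * b) ^ 5 = 1) (ha1 : a ≠ 1) : Good p u w := by
  refine ⟨fun k hk => huw1 ?_, not_isSolvable_of_two_three_five haK hbK ha hb hab ha1⟩
  have h1 : orderOf (u * w) ∣ m := orderOf_dvd_of_pow_eq_one huwm
  have h2 : orderOf (u * w) ∣ p ^ k := orderOf_dvd_of_pow_eq_one hk
  have h3 := Nat.dvd_gcd h1 h2
  rw [(hm.pow_right k).gcd_eq_one, Nat.dvd_one, orderOf_eq_one_iff] at h3
  exact h3

/-- Goodness is preserved by conjugation. -/
theorem Good.map {H : Type*} [Group H] {p : ℕ} {u w : G} (h : Good p u w) (f : G →* H)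
    (hf : Function.Injective f) : Good p (f u) (f w) := by
  refine ⟨fun k hk => h.1 k (hf ?_), fun hs => h.2 ?_⟩
  · rw [map_pow, map_mul, map_one]; exact hk
  · have e : Subgroup.closure ({f u, f w} : Set H) = (Subgroup.closure {u, w}).map f := by
      rw [MonoidHom.map_closure, Set.image_insert_eq, Set.image_singleton]
    rw [e] at hs
    exact solvable_of_solvable_injective
      (f := ((Subgroup.closure ({u, w} : Set G)).equivMapOfInjective f hf).toMonoidHom)
      (Subgroup.equivMapOfInjective _ f hf).injective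

theorem Good.of_map {H : Type*} [Group H] {p : ℕ} {u w : G} (f : G →* H) {u' w' : H}
    (hu : f u = u') (hw : f w = w') (h : Good p u' w') : Good p u w := by
  subst hu hw
  refine ⟨fun k hk => h.1 k (by rw [← map_mul, ← map_pow, hk, map_one]), fun hs => h.2 ?_⟩
  have e : Subgroup.closure ({f u, f w} : Set H) = (Subgroup.closure {u, w}).map f := by
    rw [MonoidHom.map_closure, Set.image_insert_eq, Set.image_singleton]
  rw [e]
  exact solvable_of_surjective (f.subgroupMap_surjective (Subgroup.closure {u, w}))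

theorem Good.swap {p : ℕ} {u w : G} (h : Good p u w) : Good p w u := by
  refine ⟨fun k hk => h.1 k ?_, ?_⟩
  · have e : u * w = u * (w * u) * u⁻¹ := by group
    rw [e, conj_pow, hk, mul_one, mul_inv_cancel]
  · rw [Set.pair_comm]; exact h.2

theorem Good.conj {p : ℕ} {u w : G} (h : Good p u w) (g : G) :
    Good p (g * u * g⁻¹) (g * w * g⁻¹) :=
  h.map (MulAut.conj g).toMonoidHom (MulAut.conj g).injective

end CfsgLib.AltFreePair
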