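import Mathlib
import Cfsg.Agent.Solvable.Basic

/-!
# Solvable permutation groups containing a full cycle of odd prime power length

A solvable group of permutations of `ZMod (p^a)` containing the translation by one preserves the
cosets of a non-trivial proper subgroup, unless `a = 1` and it normalises the translations.
-/

namespace CfsgLib.AltFreePair

open Equiv

/-- Translation by one. -/
def shift (L : ℕ) : Perm (ZMod L) := Equiv.addRight 1

theorem shift_apply (L : ℕ) (x : ZMod L) : shift L x = x + 1 := rfl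

theorem shift_pow_apply (L j : ℕ) (x : ZMod L) : (shift L ^ j) x = x + j := by
  induction j generalizing x with
  | zero => simp
  | succ j ih => rw [pow_succ, Perm.mul_apply, ih, shift_apply, Nat.cast_succ, add_assoc,
      add_comm (1 : ZMod L)]

variable {L p a : ℕ} [NeZero L] [Fact p.Prime]

/-- The orbit of `0` under a subgroup normalised by the translation. -/
def orbitZero (N : Subgroup (Perm (ZMod L)))
    (hN : ∀ n ∈ N, ∀ j : ℕ, shift L ^ j * n * (shift L ^ j)⁻¹ ∈ N) : AddSubgroup (ZMod L) where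
  carrier := {s | ∃ n ∈ N, n 0 = s}
  zero_mem' := ⟨1, N.one_mem, rfl⟩
  add_mem' := by
    rintro s t ⟨n, hn, rfl⟩ ⟨m, hm, rfl⟩
    refine ⟨shift L ^ (n 0).val * m * (shift L ^ (n 0).val)⁻¹ * n,
      N.mul_mem (hN m hm _) hn, ?_⟩
    have h0 : (shift L ^ (n 0).val)⁻¹ (n 0) = 0 := by
      rw [Perm.inv_def, Equiv.symm_apply_eq, shift_pow_apply, ZMod.natCast_zmod_val, zero_add]
    rw [Perm.mul_apply, Perm.mul_apply, Perm.mul_apply, h0, shift_pow_apply,
      ZMod.natCast_zmod_val, add_comm]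
  neg_mem' := by
    rintro s ⟨n, hn, rfl⟩
    refine ⟨shift L ^ (-n 0).val * n⁻¹ * (shift L ^ (-n 0).val)⁻¹, hN _ (N.inv_mem hn) _, ?_⟩
    have h0 : (shift L ^ (-n 0).val)⁻¹ 0 = n 0 := by
      rw [Perm.inv_def, Equiv.symm_apply_eq, shift_pow_apply, ZMod.natCast_zmod_val,
        add_neg_cancel]
    rw [Perm.mul_apply, Perm.mul_apply, h0, Perm.inv_def, Equiv.symm_apply_apply, shift_pow_apply,
      ZMod.natCast_zmod_val, zero_add]

/-- A non-trivial subgroup of `ZMod (p^a)` contains `p^(a-1)`. -/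
theorem pow_pred_mem {H : AddSubgroup (ZMod L)} (hL : L = p ^ a) {h : ZMod L} (hh : h ∈ H)
    (hh0 : h ≠ 0) : ((p ^ (a - 1) : ℕ) : ZMod L) ∈ H := by
  have hp := (Fact.out : p.Prime)
  obtain ⟨i, hia, hi⟩ : ∃ i ≤ a, Nat.gcd h.val L = p ^ i :=
    (Nat.dvd_prime_pow hp).mp ((Nat.gcd_dvd_right h.val L).trans hL.dvd)
  have hgne : Nat.gcd h.val L ≠ L := by
    intro he
    have h1 : L ∣ h.val := he.symm.dvd.trans (Nat.gcd_dvd_left h.val L)
    exact hh0 ((ZMod.val_eq_zero h).mp (Nat.eq_zero_of_dvd_of_lt h1 (ZMod.val_lt h)))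
  have hlt : i < a := by
    rcases hia.lt_or_eq with h1 | h1
    · exact h1
    · exact absurd (by rw [hi, h1, ← hL]) hgne
  have hg : ((Nat.gcd h.val L : ℕ) : ZMod L) ∈ H := by
    have e := congrArg (fun z : ℤ => (z : ZMod L)) (Nat.gcd_eq_gcd_ab h.val L)
    simp only [Int.cast_natCast, Int.cast_add, Int.cast_mul, ZMod.natCast_self, zero_mul,
      add_zero, ZMod.natCast_zmod_val] at e
    rw [e, mul_comm, ← zsmul_eq_mul]
    exact H.zsmul_mem hh _
  have e : p ^ (a - 1) = p ^ (a - 1 - i) * Nat.gcd h.val L := by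
    rw [hi, ← pow_add]; congr 1; omega
  rw [e, Nat.cast_mul, ← nsmul_eq_mul]
  exact H.nsmul_mem hg _

theorem eq_top_of_isUnit_mem {H : AddSubgroup (ZMod L)} {c : ZMod L} (hc : c ∈ H)
    (hu : IsUnit c) : H = ⊤ := by
  rw [AddSubgroup.eq_top_iff']
  intro d
  obtain ⟨v, rfl⟩ := hu
  have e : d = ((d * ↑v⁻¹).val : ZMod L) * ↑v := by
    rw [ZMod.natCast_zmod_val, mul_assoc, Units.inv_mul, mul_one]
  rw [e, ← nsmul_eq_mul]
  exact H.nsmul_mem hc _

theorem geom_poly (s : ℕ) :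
    ((Polynomial.X : Polynomial (ZMod p)) - 1) ^ (p ^ s - 1)
      = ∑ i ∈ Finset.range (p ^ s), Polynomial.X ^ i := by
  have hp := (Fact.out : p.Prime)
  have h1 : ((Polynomial.X : Polynomial (ZMod p)) - 1) ≠ 0 := Polynomial.X_sub_C_ne_zero 1
  apply mul_right_cancel₀ h1
  rw [geom_sum_mul, ← pow_succ, Nat.sub_add_cancel (Nat.one_le_pow _ _ hp.pos),
    sub_pow_char_pow, one_pow]

theorem le_pow_pred_sub_one (hp3 : 3 ≤ p) (ha : 2 ≤ a) : a ≤ p ^ (a - 1) - 1 := by
  obtain ⟨b, rfl⟩ : ∃ b, a = b + 2 := ⟨a - 2, by omega⟩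
  have : b + 3 ≤ 3 ^ (b + 1) := by
    induction b with
    | zero => norm_num
    | succ b ih => rw [pow_succ]; omega
  have h2 : 3 ^ (b + 1) ≤ p ^ (b + 1) := Nat.pow_le_pow_left hp3 _
  rw [show b + 2 - 1 = b + 1 by omega]
  omega

/-- A `p`-element normalising a group of order `p` centralises it. -/
theorem conj_eq_self_of_card_prime {α : Type*} [Finite α] {N : Subgroup (Perm α)}
    {g n : Perm α} (hgn : g * n * g⁻¹ ∈ N) (hn : n ∈ N) (hn1 : n ≠ 1) (hcard : Nat.card ↥N = p)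
    (k : ℕ) (hk : g ^ p ^ k = 1) : g * n * g⁻¹ = n := by
  have hp := (Fact.out : p.Prime)
  have hord : orderOf n = p := by
    rcases (Nat.dvd_prime hp).mp (hcard ▸ N.orderOf_dvd_natCard hn) with h | h
    · exact absurd (orderOf_eq_one_iff.mp h) hn1
    · exact h
  have hz : Subgroup.zpowers n = N := by
    refine Subgroup.eq_of_le_of_card_ge (Subgroup.zpowers_le.mpr hn) ?_
    rw [Nat.card_zpowers, hord, hcard]
  obtain ⟨c, hc⟩ : ∃ c : ℕ, n ^ c = g * n * g⁻¹ :=
    (orderOf_pos_iff.mp (hord ▸ hp.pos)).mem_powers_iff_mem_zpowers.mpr (hz ▸ hgn)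
  have hiter : ∀ i : ℕ, g ^ i * n * (g ^ i)⁻¹ = n ^ (c ^ i) := by
    intro i
    induction i with
    | zero => simp
    | succ i ih =>
      calc g ^ (i + 1) * n * (g ^ (i + 1))⁻¹ = g * (g ^ i * n * (g ^ i)⁻¹) * g⁻¹ := by group
        _ = (g * n * g⁻¹) ^ (c ^ i) := by rw [ih, conj_pow]
        _ = n ^ (c ^ (i + 1)) := by rw [← hc, ← pow_mul, pow_succ']
  have h1 : n ^ (c ^ p ^ k) = n ^ 1 := by rw [← hiter, hk]; simp
  rw [pow_eq_pow_iff_modEq, hord, ← ZMod.natCast_eq_natCast_iff] at h1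
  push_cast at h1
  rw [ZMod.pow_card_pow] at h1
  have h2 : c ≡ 1 [MOD p] := by rw [← ZMod.natCast_eq_natCast_iff, Nat.cast_one]; exact h1
  rw [← hc]
  calc n ^ c = n ^ 1 := pow_eq_pow_iff_modEq.mpr (hord.symm ▸ h2)
    _ = n := pow_one n

theorem card_eq_of_regular {N : Subgroup (Perm (ZMod L))}
    (hreg : ∀ s : ZMod L, ∃! n : ↥N, (n : Perm (ZMod L)) 0 = s) : Nat.card ↥N = L :=
  (Nat.card_eq_of_bijective (fun n : ↥N => (n : Perm (ZMod L)) 0)
    ⟨fun n _ h => (hreg ((n : Perm (ZMod L)) 0)).unique rfl h.symm,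
      fun s => (hreg s).exists⟩).trans (Nat.card_zmod L)

/-- A unipotent automorphism of an elementary abelian group of order `p^a`, `a ≥ 2`, has
vanishing norms of length `p^(a-1)`. -/
theorem sum_iterate_eq_zero {A : Type*} [AddCommGroup A] [Finite A] (hp3 : 3 ≤ p) (ha : 2 ≤ a)
    (hexp : ∀ x : A, p • x = 0) (hcard : Nat.card A = p ^ a) (T : A →+ A)
    (hT : ∀ x, (⇑T)^[p ^ a] x = x) (v : A) :
    ∑ i ∈ Finset.range (p ^ (a - 1)), (⇑T)^[i] v = 0 := by
  have hp := (Fact.out : p.Prime)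
  obtain ⟨_⟩ : Nonempty (Module (ZMod p) A) := ⟨AddCommGroup.zmodModule hexp⟩
  haveI : Module.Finite (ZMod p) A := Module.Finite.of_finite
  have hfr : Module.finrank (ZMod p) A = a := by
    have h1 := Module.natCard_eq_pow_finrank (K := ZMod p) (V := A)
    rw [hcard, Nat.card_zmod] at h1
    exact (Nat.pow_right_injective hp.two_le h1).symm
  let S : Module.End (ZMod p) A := T.toZModLinearMap p
  have hSpow : ∀ (i : ℕ) (x : A), (S ^ i) x = (⇑T)^[i] x := fun i x => by
    rw [Module.End.pow_apply]; rfl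
  have hSL : S ^ p ^ a = 1 := by
    ext x; rw [hSpow, hT]; rfl
  have hnil : (S - 1) ^ p ^ a = 0 := by
    have h1 : ((Polynomial.X : Polynomial (ZMod p)) - 1) ^ p ^ a = Polynomial.X ^ p ^ a - 1 := by
      rw [sub_pow_char_pow, one_pow]
    have h2 := congrArg (Polynomial.aeval S) h1
    simpa [hSL] using h2
  have hnila : (S - 1) ^ a = 0 := by
    have h1 : IsNilpotent (S - 1) := ⟨p ^ a, hnil⟩
    have h2 := LinearMap.aeval_self_charpoly (S - 1)
    rw [h1.charpoly_eq_X_pow_finrank, hfr, map_pow, Polynomial.aeval_X] at h2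
    exact h2
  have hsum : ∑ i ∈ Finset.range (p ^ (a - 1)), S ^ i = 0 := by
    have h2 := congrArg (Polynomial.aeval S) (geom_poly (p := p) (a - 1))
    simp only [map_pow, map_sub, map_one, Polynomial.aeval_X, map_sum] at h2
    rw [← h2]
    obtain ⟨d, hd⟩ := Nat.exists_eq_add_of_le (le_pow_pred_sub_one hp3 ha)
    rw [hd, pow_add, hnila, zero_mul]
  calc ∑ i ∈ Finset.range (p ^ (a - 1)), (⇑T)^[i] v
      = (∑ i ∈ Finset.range (p ^ (a - 1)), S ^ i) v := by simp only [LinearMap.sum_apply, hSpow]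
    _ = 0 := by rw [hsum, LinearMap.zero_apply]

open scoped IsMulCommutative in
/-- A regular elementary abelian group of degree `p^a`, `a ≥ 2`, is not normalised by a full
cycle. -/
theorem not_normalized_by_cycle (hp3 : 3 ≤ p) (ha : 2 ≤ a) (hL : L = p ^ a)
    {N : Subgroup (Perm (ZMod L))} (hc : ∀ x ∈ N, ∀ y ∈ N, x * y = y * x)
    (hexp : ∀ x ∈ N, x ^ p = 1)
    (hN : ∀ n ∈ N, ∀ j : ℕ, shift L ^ j * n * (shift L ^ j)⁻¹ ∈ N)
    (hreg : ∀ s : ZMod L, ∃! n : ↥N, (n : Perm (ZMod L)) 0 = s) : False := by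
  have hp := (Fact.out : p.Prime)
  haveI : IsMulCommutative ↥N := ⟨⟨fun x y => Subtype.ext (hc _ x.2 _ y.2)⟩⟩
  let c : ↥N →* ↥N :=
    { toFun := fun n => ⟨shift L * n * (shift L)⁻¹, by simpa using hN _ n.2 1⟩
      map_one' := Subtype.ext (by simp)
      map_mul' := fun x y => Subtype.ext (by simp only [Subgroup.coe_mul]; group) }
  have hciter : ∀ (i : ℕ) (x : ↥N), (((⇑c)^[i] x : ↥N) : Perm (ZMod L))
      = shift L ^ i * (x : Perm (ZMod L)) * (shift L ^ i)⁻¹ := by
    intro i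
    induction i with
    | zero => intro x; simp
    | succ i ih =>
      intro x
      rw [Function.iterate_succ_apply']
      change shift L * (((⇑c)^[i] x : ↥N) : Perm (ZMod L)) * (shift L)⁻¹ = _
      rw [ih]; group
  have hTiter : ∀ (i : ℕ) (x : Additive ↥N), (⇑(MonoidHom.toAdditive c))^[i] x
      = Additive.ofMul ((⇑c)^[i] x.toMul) := by
    intro i
    induction i with
    | zero => intro x; rfl
    | succ i ih =>
      intro x
      rw [Function.iterate_succ_apply', ih, Function.iterate_succ_apply']; rfl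
  obtain ⟨⟨n1, hn1⟩, hn10⟩ := (hreg 1).exists
  set v : Additive ↥N := Additive.ofMul ⟨n1, hn1⟩
  have h0 := sum_iterate_eq_zero (p := p) (a := a) (A := Additive ↥N) hp3 ha
    (fun x => by
      apply Additive.toMul.injective
      rw [toMul_nsmul]
      exact Subtype.ext (hexp _ x.toMul.2))
    (((Nat.card_congr Additive.toMul).trans (card_eq_of_regular hreg)).trans hL)
    (MonoidHom.toAdditive c)
    (fun x => by
      apply Additive.toMul.injective
      rw [hTiter]
      apply Subtype.ext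
      change (((⇑c)^[p ^ a] x.toMul : ↥N) : Perm (ZMod L)) = _
      rw [hciter]
      have h1 : shift L ^ p ^ a = 1 := by
        ext y
        rw [shift_pow_apply, Perm.one_apply, (ZMod.natCast_eq_zero_iff _ _).mpr hL.dvd, add_zero]
      simp [h1]) v
  have hv : ∀ k : ℕ, (((∑ i ∈ Finset.range k, (⇑(MonoidHom.toAdditive c))^[i] v).toMul : ↥N) :
      Perm (ZMod L)) 0 = (k : ZMod L) := by
    intro k
    induction k with
    | zero => simp
    | succ k ih =>
      have e : ∑ i ∈ Finset.range (k + 1), (⇑(MonoidHom.toAdditive c))^[i] v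
          = MonoidHom.toAdditive c (∑ i ∈ Finset.range k, (⇑(MonoidHom.toAdditive c))^[i] v)
            + v := by
        rw [Finset.sum_range_succ', map_sum, Function.iterate_zero_apply]
        simp only [Function.iterate_succ_apply']
      rw [e, toMul_add]
      change ((shift L * _ * (shift L)⁻¹) * n1) 0 = _
      rw [Perm.mul_apply, hn10, Perm.mul_apply, Perm.mul_apply]
      have : (shift L)⁻¹ (1 : ZMod L) = 0 := by
        rw [Perm.inv_def, Equiv.symm_apply_eq, shift_apply, zero_add]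
      rw [this, ih, shift_apply, Nat.cast_succ]
  have h2 := hv (p ^ (a - 1))
  rw [h0, toMul_zero] at h2
  replace h2 : ((p ^ (a - 1) : ℕ) : ZMod L) = 0 := h2.symm
  rw [ZMod.natCast_eq_zero_iff] at h2
  have h3 := hL.symm.dvd.trans h2
  rw [Nat.pow_dvd_pow_iff_le_right hp.one_lt] at h3
  omega

/-- The main criterion: a solvable group of permutations of `ZMod (p^a)` containing the
translation respects the cosets of a non-trivial proper subgroup or normalises the translations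
(`a = 1`). -/
theorem not_isSolvable_of_separated (hp3 : 3 ≤ p) (ha : 1 ≤ a) (hL : L = p ^ a)
    {K : Subgroup (Perm (ZMod L))} (hu : shift L ∈ K) {w : Perm (ZMod L)} (hw : w ∈ K)
    (hwp : ∃ k : ℕ, w ^ p ^ k = 1) {x y : ZMod L} (hxy : x - y = ((p ^ (a - 1) : ℕ) : ZMod L))
    (hunit : IsUnit (w x - w y)) (hone : a = 1 → ∃ z, w (z + 1) ≠ w z + 1) :
    ¬ Group.IsSolvable ↥K := by
  intro hsol
  have hp := (Fact.out : p.Prime)
  have hL1 : 1 < L := hL ▸ Nat.one_lt_pow (by omega) hp.one_lt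
  haveI : Nontrivial ↥K := by
    refine ⟨⟨⟨shift L, hu⟩, 1, fun he => ?_⟩⟩
    have h1 : shift L 0 = 0 := by
      rw [show shift L = 1 from congrArg Subtype.val he, Perm.one_apply]
    rw [shift_apply, zero_add] at h1
    haveI : Fact (1 < L) := ⟨hL1⟩
    exact one_ne_zero h1
  obtain ⟨N₀, hN₀, hN₀ne, hN₀min⟩ := CfsgLib.Solvable.exists_minimal_normal (G := ↥K)
  haveI := hN₀
  obtain ⟨ℓ, hℓ, hexp₀⟩ := CfsgLib.Solvable.exists_prime_pow_eq_one_of_minimal_normal hN₀ne hN₀min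
  have hc₀ := CfsgLib.Solvable.mul_comm_of_minimal_normal hN₀ne hN₀min
  set N := N₀.map K.subtype with hNdef
  have hN : ∀ k ∈ K, ∀ n ∈ N, k * n * k⁻¹ ∈ N := by
    rintro k hk _ ⟨n, hn, rfl⟩
    exact ⟨(⟨k, hk⟩ : ↥K) * n * (⟨k, hk⟩ : ↥K)⁻¹, hN₀.conj_mem n hn _, rfl⟩
  have hc : ∀ x ∈ N, ∀ y ∈ N, x * y = y * x := by
    rintro _ ⟨n, hn, rfl⟩ _ ⟨m, hm, rfl⟩
    rw [← map_mul, hc₀ n hn m hm, map_mul]
  have hexp : ∀ x ∈ N, x ^ ℓ = 1 := by
    rintro _ ⟨n, hn, rfl⟩
    rw [← map_pow, hexp₀ n hn, map_one]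
  have hsh : ∀ n ∈ N, ∀ j : ℕ, shift L ^ j * n * (shift L ^ j)⁻¹ ∈ N := fun n hn j =>
    hN _ (K.pow_mem hu j) n hn
  set H := orbitZero N hsh
  -- translates of the orbit
  have horb : ∀ n ∈ N, ∀ z : ZMod L, n z - z ∈ H := by
    intro n hn z
    refine ⟨(shift L ^ z.val)⁻¹ * n * shift L ^ z.val, ?_, ?_⟩
    · simpa using hN _ (K.inv_mem (K.pow_mem hu z.val)) n hn
    · rw [Perm.mul_apply, Perm.mul_apply, shift_pow_apply, ZMod.natCast_zmod_val, zero_add,
        Perm.inv_def, Equiv.symm_apply_eq, shift_pow_apply, ZMod.natCast_zmod_val, sub_add_cancel]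
  have hcon : ∀ k ∈ K, ∀ z z' : ZMod L, z - z' ∈ H → k z - k z' ∈ H := by
    intro k hk z z' hzz
    obtain ⟨n, hn, hn0⟩ := hzz
    set n' := shift L ^ z'.val * n * (shift L ^ z'.val)⁻¹
    have hn'z : n' z' = z := by
      have : (shift L ^ z'.val)⁻¹ z' = 0 := by
        rw [Perm.inv_def, Equiv.symm_apply_eq, shift_pow_apply, ZMod.natCast_zmod_val, zero_add]
      rw [Perm.mul_apply, Perm.mul_apply, this, hn0, shift_pow_apply, ZMod.natCast_zmod_val,
        sub_add_cancel]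
    have h2 := horb (k * n' * k⁻¹) (hN k hk n' (hsh n hn z'.val)) (k z')
    rw [Perm.mul_apply, Perm.mul_apply, show k⁻¹ (k z') = z' from k.symm_apply_apply z', hn'z] at h2
    exact h2
  -- the orbit of zero is non-trivial
  obtain ⟨n₀, hn₀, hn₀1⟩ : ∃ n ∈ N, n ≠ 1 := by
    obtain ⟨n, hn, hne⟩ := (Subgroup.bot_or_exists_ne_one N₀).resolve_left hN₀ne
    exact ⟨_, ⟨n, hn, rfl⟩, fun he => hne (Subtype.ext he)⟩
  obtain ⟨z₀, hz₀⟩ : ∃ z, n₀ z ≠ z := by
    by_contra h
    push Not at h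
    exact hn₀1 (Perm.ext h)
  have hq : ((p ^ (a - 1) : ℕ) : ZMod L) ∈ H :=
    pow_pred_mem hL (horb n₀ hn₀ z₀) (sub_ne_zero.mpr hz₀)
  -- hence it is everything
  have htop : H = ⊤ := eq_top_of_isUnit_mem (hcon w hw x y (hxy ▸ hq)) hunit
  have hreg : ∀ s : ZMod L, ∃! n : ↥N, (n : Perm (ZMod L)) 0 = s := by
    intro s
    obtain ⟨n, hn, hn0⟩ : s ∈ H := htop ▸ AddSubgroup.mem_top s
    refine ⟨⟨n, hn⟩, hn0, fun m hm => Subtype.ext (Perm.ext fun t => ?_)⟩
    obtain ⟨r, hr, hr0⟩ : t ∈ H := htop ▸ AddSubgroup.mem_top t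
    rw [← hr0, ← Perm.mul_apply, ← Perm.mul_apply, hc _ m.2 _ hr, hc _ hn _ hr,
      Perm.mul_apply, Perm.mul_apply, hm, hn0]
  have hℓp : ℓ = p := by
    have h1 : orderOf n₀ = ℓ := by
      haveI := Fact.mk hℓ
      exact orderOf_eq_prime (hexp _ hn₀) hn₀1
    have h2 : ℓ ∣ Nat.card ↥N := h1 ▸ N.orderOf_dvd_natCard hn₀
    have h3 : Nat.card ↥N = L := card_eq_of_regular hreg
    rw [h3, hL] at h2
    exact (Nat.prime_dvd_prime_iff_eq hℓ hp).mp (hℓ.dvd_of_dvd_pow h2)
  subst hℓp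
  rcases Nat.lt_or_ge a 2 with ha2 | ha2
  · -- prime degree: `N` is the translation group
    obtain rfl : a = 1 := by omega
    have hpL : L = ℓ := by rw [hL, pow_one]
    have hcardN : Nat.card ↥N = ℓ := (card_eq_of_regular hreg).trans hpL
    obtain ⟨⟨n1, hn1⟩, hn10⟩ := (hreg 1).exists
    change n1 0 = 1 at hn10
    have hne : n1 ≠ 1 := fun he => by
      haveI : Fact (1 < L) := ⟨hL1⟩
      rw [he, Perm.one_apply] at hn10
      exact zero_ne_one hn10
    have hshiftL : shift L ^ ℓ ^ 1 = 1 := by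
      ext t
      rw [pow_one, shift_pow_apply, Perm.one_apply]
      subst hpL
      rw [ZMod.natCast_self, add_zero]
    have hcomm := conj_eq_self_of_card_prime (hN _ hu _ hn1) hn1 hne hcardN 1 hshiftL
    have hsn : ∀ t, n1 (t + 1) = n1 t + 1 := fun t => by
      have := congrArg (fun f : Perm (ZMod L) => f (t + 1)) hcomm
      simp only [Perm.mul_apply, Perm.inv_def] at this
      rw [show (shift L).symm (t + 1) = t from by rw [Equiv.symm_apply_eq, shift_apply],
        shift_apply] at this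
      exact this.symm
    have hn1c : ∀ i : ℕ, n1 (i : ZMod L) = (i : ZMod L) + 1 := by
      intro i
      induction i with
      | zero => simpa using hn10
      | succ i ih' => rw [Nat.cast_succ, hsn, ih']
    have e : n1 = shift L := Perm.ext fun t => by
      have := hn1c t.val
      rwa [ZMod.natCast_zmod_val] at this
    subst e
    obtain ⟨k, hk⟩ := hwp
    obtain ⟨z, hz⟩ := hone rfl
    apply hz
    have hcomm2 := conj_eq_self_of_card_prime (hN _ hw _ hn1) hn1 hne hcardN k hk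
    have := congrArg (fun f : Perm (ZMod L) => f (w z)) hcomm2
    simp only [Perm.mul_apply, Perm.inv_def, Equiv.symm_apply_apply, shift_apply] at this
    exact this
  · exact not_normalized_by_cycle hp3 ha2 hL hc hexp hsh hreg

end CfsgLib.AltFreePair
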