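import Cfsg.Agent.AltFreePair.Basic
import Cfsg.Agent.AltFreePair.Cyclic

/-!
# A full cycle of length `p^a` against an arbitrary `p`-element of the same degree
-/

namespace CfsgLib.AltFreePair

open Equiv

theorem exists_perm_map {α : Type*} [Finite α] {m : ℕ} (f g : Fin m → α)
    (hf : Function.Injective f) (hg : Function.Injective g) :
    ∃ π : Perm α, ∀ i, π (f i) = g i := by
  classical
  haveI := Fintype.ofFinite α
  let e : {x // x ∈ Set.range f} ≃ {x // x ∈ Set.range g} :=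
    (Equiv.ofInjective f hf).symm.trans (Equiv.ofInjective g hg)
  refine ⟨e.extendSubtype, fun i => ?_⟩
  rw [Equiv.extendSubtype_apply_of_mem e (f i) ⟨i, rfl⟩]
  simp [e, Equiv.ofInjective_symm_apply]

theorem apply_eq_self_of_coprime {α : Type*} [Finite α] {g : Perm α} {x : α} {r s : ℕ}
    (hc : Nat.Coprime r s) (hr : (g ^ r) x = x) (hs : (g ^ s) x = x) : g x = x := by
  have hr' : g ^ r • x = x := hr
  have hs' : g ^ s • x = x := hs
  rw [MulAction.pow_smul_eq_iff_minimalPeriod_dvd] at hr' hs'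
  have h1 := Nat.dvd_gcd hr' hs'
  rw [hc.gcd_eq_one] at h1
  have h2 : g ^ 1 • x = x := MulAction.pow_smul_eq_iff_minimalPeriod_dvd.mpr h1
  simpa using h2

theorem injective_five {α : Type*} {a b c d e : α} (h1 : a ≠ b) (h2 : a ≠ c) (h3 : a ≠ d)
    (h4 : a ≠ e) (h5 : b ≠ c) (h6 : b ≠ d) (h7 : b ≠ e) (h8 : c ≠ d) (h9 : c ≠ e) (h10 : d ≠ e) :
    Function.Injective ![a, b, c, d, e] := by
  intro i j hij
  fin_cases i <;> fin_cases j <;> first
    | rfl
    | (exfalso; first
      | exact h1 hij | exact h2 hij | exact h3 hij | exact h4 hij | exact h5 hij | exact h6 hij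
      | exact h7 hij | exact h8 hij | exact h9 hij | exact h10 hij
      | exact h1 hij.symm | exact h2 hij.symm | exact h3 hij.symm | exact h4 hij.symm
      | exact h5 hij.symm | exact h6 hij.symm | exact h7 hij.symm | exact h8 hij.symm
      | exact h9 hij.symm | exact h10 hij.symm)

/-- Five points `x, σx, σ²x, y, σy`, or a single 3-cycle. -/
theorem five_points_or_three_cycle {α : Type*} [Finite α] {σ : Perm α} {p k : ℕ}
    (hp : Odd p) (hk : σ ^ p ^ k = 1) {x : α} (hx : σ x ≠ x) :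
    (∃ f : Fin 5 → α, Function.Injective f ∧ σ (f 0) = f 1 ∧ σ (f 1) = f 2 ∧ σ (f 3) = f 4) ∨
      (σ (σ (σ x)) = x ∧ σ (σ x) ≠ x ∧ ∀ z, z ≠ x → z ≠ σ x → z ≠ σ (σ x) → σ z = z) := by
  have hodd : ∀ (z : α) (r : ℕ), Nat.Coprime r (p ^ k) → (σ ^ r) z = z → σ z = z :=
    fun z r hr h => apply_eq_self_of_coprime hr h (by rw [hk]; rfl)
  have h2 : ∀ z, σ (σ z) = z → σ z = z := fun z h =>
    hodd z 2 (Nat.coprime_two_left.mpr hp.pow) (by rw [pow_two]; exact h)
  have h4 : ∀ z, σ (σ (σ (σ z))) = z → σ z = z := fun z h =>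
    hodd z 4 (by
      have : Nat.Coprime (2 ^ 2) (p ^ k) :=
        Nat.Coprime.pow_left 2 (Nat.coprime_two_left.mpr hp.pow)
      exact this) (by simpa [pow_succ] using h)
  have hinj := σ.injective
  have hx1 : σ (σ x) ≠ σ x := fun h => hx (hinj h)
  have hx2 : σ (σ x) ≠ x := fun h => hx (h2 x h)
  by_cases h3 : σ (σ (σ x)) = x
  · by_cases hy : ∃ y, σ y ≠ y ∧ y ≠ x ∧ y ≠ σ x ∧ y ≠ σ (σ x)
    · obtain ⟨y, hy0, hy1, hy2, hy3⟩ := hy
      left
      have a1 : σ y ≠ x := fun h => hy3 (hinj (h.trans h3.symm))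
      have a2 : σ y ≠ σ x := fun h => hy1 (hinj h)
      have a3 : σ y ≠ σ (σ x) := fun h => hy2 (hinj h)
      exact ⟨![x, σ x, σ (σ x), y, σ y], injective_five hx.symm hx2.symm hy1.symm a1.symm
        hx1.symm hy2.symm a2.symm hy3.symm a3.symm hy0.symm, rfl, rfl, rfl⟩
    · push Not at hy
      right
      refine ⟨h3, hx2, fun z a b c => ?_⟩
      by_contra hz
      exact c (hy z hz a b)
  · left
    have a1 : σ (σ (σ x)) ≠ σ x := fun h => hx2 (hinj h)
    have a2 : σ (σ (σ x)) ≠ σ (σ x) := fun h => hx1 (hinj h)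
    have b1 : σ (σ (σ (σ x))) ≠ x := fun h => hx (h4 x h)
    have b2 : σ (σ (σ (σ x))) ≠ σ x := fun h => h3 (hinj h)
    have b3 : σ (σ (σ (σ x))) ≠ σ (σ x) := fun h => a1 (hinj h)
    have b4 : σ (σ (σ (σ x))) ≠ σ (σ (σ x)) := fun h => a2 (hinj h)
    exact ⟨![x, σ x, σ (σ x), σ (σ (σ x)), σ (σ (σ (σ x)))], injective_five hx.symm hx2.symm
      (Ne.symm h3) b1.symm hx1.symm a1.symm b2.symm a2.symm b3.symm b4.symm, rfl, rfl, rfl⟩

variable {L p a : ℕ} [NeZero L] [Fact p.Prime]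

theorem natCast_ne {x y : ℕ} (hx : x < L) (hy : y < L) (h : x ≠ y) :
    (x : ZMod L) ≠ (y : ZMod L) := fun he => h (by
  rw [ZMod.natCast_eq_natCast_iff', Nat.mod_eq_of_lt hx, Nat.mod_eq_of_lt hy] at he
  exact he)

theorem isUnit_two (hp3 : 3 ≤ p) (hL : L = p ^ a) : IsUnit ((2 : ℕ) : ZMod L) := by
  rw [ZMod.isUnit_iff_coprime, hL]
  exact Nat.Coprime.pow_right _ (Nat.coprime_two_left.mpr
    ((Fact.out : p.Prime).odd_of_ne_two (by omega)))

/-- The five arrow pattern gives a good pair. -/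
theorem good_of_arrows (hp3 : 3 ≤ p) (ha : 1 ≤ a) (hL : L = p ^ a) (hL5 : 5 ≤ L)
    {σ : Perm (ZMod L)} (hσ : ∃ k : ℕ, σ ^ p ^ k = 1)
    (h0 : σ 0 = ((p ^ (a - 1) : ℕ) : ZMod L))
    (h1 : σ ((p ^ (a - 1) : ℕ) : ZMod L) = ((p ^ (a - 1) + 2 : ℕ) : ZMod L))
    (h2 : σ ((p ^ (a - 1) + 1 : ℕ) : ZMod L) = -1) : Good p (shift L) σ := by
  have hp := (Fact.out : p.Prime)
  set q := p ^ (a - 1) with hq
  have hqL : q * p = L := by rw [hq, ← pow_succ, hL]; congr 1; omega
  have hq1 : 1 ≤ q := Nat.one_le_pow _ _ hp.pos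
  have hq3 : q * 3 ≤ L := by rw [← hqL]; exact Nat.mul_le_mul_left q hp3
  have hne : ((q + 1 : ℕ) : ZMod L) ≠ 0 := by
    rw [← Nat.cast_zero]; exact natCast_ne (by omega) (by omega) (by omega)
  refine ⟨fun k hk => hne ?_, ?_⟩
  · have e0 : (shift L * σ) 0 = ((q + 1 : ℕ) : ZMod L) := by
      rw [Perm.mul_apply, h0, shift_apply, Nat.cast_succ]
    have e1 : (shift L * σ) ((q + 1 : ℕ) : ZMod L) = 0 := by
      rw [Perm.mul_apply, h2, shift_apply, neg_add_cancel]
    have e2 : ((shift L * σ) ^ 2) 0 = 0 := by rw [pow_two, Perm.mul_apply, e0, e1]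
    have h3 := apply_eq_self_of_coprime (r := 2) (s := p ^ k)
      (Nat.coprime_two_left.mpr (hp.odd_of_ne_two (by omega)).pow) e2 (by rw [hk]; rfl)
    rw [e0] at h3
    exact h3
  · refine not_isSolvable_of_separated (p := p) hp3 ha hL
      (Subgroup.subset_closure (Set.mem_insert _ _))
      (Subgroup.subset_closure (Set.mem_insert_of_mem _ rfl)) hσ
      (x := ((q : ℕ) : ZMod L)) (y := 0) (by rw [sub_zero]) ?_ ?_
    · rw [h1, h0, Nat.cast_add, add_sub_cancel_left]
      exact isUnit_two hp3 hL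
    · intro ha1
      have hq' : q = 1 := by rw [hq, ha1, Nat.sub_self, pow_zero]
      refine ⟨0, ?_⟩
      rw [zero_add, h0]
      have : σ 1 = ((3 : ℕ) : ZMod L) := by
        have := h1; rw [hq'] at this; simpa using this
      rw [this, hq', ← Nat.cast_succ]
      exact natCast_ne (by omega) (by omega) (by omega)

/-- A single 3-cycle against a long cycle. -/
theorem good_of_three (hp : p = 3) (ha : 2 ≤ a) (hL : L = p ^ a) {σ : Perm (ZMod L)}
    (hσ : ∃ k : ℕ, σ ^ p ^ k = 1) (h0 : σ 0 = 2) (h2 : σ 2 = 1) (h1 : σ 1 = 0)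
    (hfix : ∀ z, z ≠ 0 → z ≠ 1 → z ≠ 2 → σ z = z) : Good p (shift L) σ := by
  have hpp := (Fact.out : p.Prime)
  set q := p ^ (a - 1) with hq
  have hqL : q * p = L := by rw [hq, ← pow_succ, hL]; congr 1; omega
  have hq3 : 3 ≤ q := by
    rw [hq, hp]
    calc 3 = 3 ^ 1 := rfl
      _ ≤ 3 ^ (a - 1) := Nat.pow_le_pow_right (by norm_num) (by omega)
  have hL9 : 9 ≤ L := by rw [← hqL, hp]; omega
  have hne : ∀ j : ℕ, 3 ≤ j → j < L → σ ((j : ℕ) : ZMod L) = ((j : ℕ) : ZMod L) := by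
    intro j hj hjL
    refine hfix _ ?_ ?_ ?_
    · rw [← Nat.cast_zero]; exact natCast_ne hjL (by omega) (by omega)
    · rw [← Nat.cast_one]; exact natCast_ne hjL (by omega) (by omega)
    · rw [← Nat.cast_two]; exact natCast_ne hjL (by omega) (by omega)
  refine ⟨fun k hk => ?_, ?_⟩
  · set g := shift L * σ
    have e0 : g 0 = ((3 : ℕ) : ZMod L) := by
      rw [Perm.mul_apply, h0, shift_apply]; push_cast; norm_num
    have estep : ∀ j : ℕ, j + 3 ≤ L → (g ^ (j + 1)) 0 = ((j + 3 : ℕ) : ZMod L) := by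
      intro j
      induction j with
      | zero => intro _; simpa using e0
      | succ j ih =>
        intro hj
        rw [pow_succ', Perm.mul_apply, ih (by omega), Perm.mul_apply,
          hne _ (by omega) (by omega), shift_apply, ← Nat.cast_succ]
    have e2 : (g ^ (L - 2)) 0 = 0 := by
      have := estep (L - 3) (by omega)
      rw [show L - 3 + 1 = L - 2 by omega, show L - 3 + 3 = L by omega, ZMod.natCast_self] at this
      exact this
    have hc : Nat.Coprime (L - 2) (p ^ k) := by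
      refine Nat.Coprime.pow_right _ ((Nat.Prime.coprime_iff_not_dvd hpp).mpr fun hd => ?_).symm
      have h3 : p ∣ L := ⟨q, by rw [← hqL, mul_comm]⟩
      have h4 := Nat.dvd_sub h3 hd
      rw [show L - (L - 2) = 2 by omega] at h4
      have := Nat.le_of_dvd (by norm_num) h4
      omega
    have h3 := apply_eq_self_of_coprime hc e2 (by rw [hk]; rfl)
    rw [e0, ← Nat.cast_zero] at h3
    exact natCast_ne (by omega) (by omega) (by omega) h3
  · refine not_isSolvable_of_separated (p := p) (by omega) (by omega) hL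
      (Subgroup.subset_closure (Set.mem_insert _ _))
      (Subgroup.subset_closure (Set.mem_insert_of_mem _ rfl)) hσ
      (x := ((q : ℕ) : ZMod L)) (y := 0) (by rw [sub_zero]) ?_ (fun h => by omega)
    rw [hne q hq3 (by rw [← hqL, hp]; omega), h0, ← Nat.cast_two, ← Nat.cast_sub (by omega),
      ZMod.isUnit_iff_coprime, hL]
    refine Nat.Coprime.pow_right _ ((Nat.Prime.coprime_iff_not_dvd hpp).mpr fun hd => ?_).symm
    have h3 : p ∣ q := dvd_pow_self p (by omega)
    have h4 := Nat.dvd_sub h3 hd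
    rw [show q - (q - 2) = 2 by omega] at h4
    have := Nat.le_of_dvd (by norm_num) h4
    omega

/-- For each `p`-element of degree `p^a ≥ 7` there is a conjugate `σ` and a transposition `τ`
such that both `σ` and `τστ⁻¹` are good against the full cycle. -/
theorem exists_good (hp3 : 3 ≤ p) (hL : L = p ^ a) (hL7 : 7 ≤ L) {σ₀ : Perm (ZMod L)}
    (hσ₀ : ∃ k : ℕ, σ₀ ^ p ^ k = 1) (hne : σ₀ ≠ 1) :
    ∃ σ τ : Perm (ZMod L), IsConj σ₀ σ ∧ Perm.sign τ = -1 ∧ Good p (shift L) σ ∧
      Good p (shift L) (τ * σ * τ⁻¹) := by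
  have hp := (Fact.out : p.Prime)
  have ha : 1 ≤ a := by
    rcases Nat.eq_zero_or_pos a with h | h
    · rw [h, pow_zero] at hL; omega
    · exact h
  obtain ⟨k, hk⟩ := hσ₀
  obtain ⟨x, hx⟩ : ∃ x, σ₀ x ≠ x := by
    by_contra h; push Not at h; exact hne (Perm.ext h)
  have hkc : ∀ π : Perm (ZMod L), (π * σ₀ * π⁻¹) ^ p ^ k = 1 := fun π => by
    rw [conj_pow, hk]; group
  have hconj : ∀ π : Perm (ZMod L), ∀ z, (π * σ₀ * π⁻¹) (π z) = π (σ₀ z) := fun π z => by
    rw [Perm.mul_apply, Perm.mul_apply, show π⁻¹ (π z) = z from π.symm_apply_apply z]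
  -- two points outside a small set
  have htwo : ∀ S : Finset (ZMod L), S.card ≤ 5 →
      ∃ τ : Perm (ZMod L), Perm.sign τ = -1 ∧ ∀ z ∈ S, τ z = z := by
    intro S hS
    have h1 : 1 < Sᶜ.card := by rw [Finset.card_compl, ZMod.card]; omega
    obtain ⟨c, hc, d, hd, hcd⟩ := Finset.one_lt_card.mp h1
    rw [Finset.mem_compl] at hc hd
    exact ⟨Equiv.swap c d, Perm.sign_swap hcd, fun z hz =>
      Equiv.swap_apply_of_ne_of_ne (fun h => hc (h ▸ hz)) (fun h => hd (h ▸ hz))⟩
  set q := p ^ (a - 1) with hq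
  have hqL : q * p = L := by rw [hq, ← pow_succ, hL]; congr 1; omega
  have hq1 : 1 ≤ q := Nat.one_le_pow _ _ hp.pos
  have hq3 : q * 3 ≤ L := by rw [← hqL]; exact Nat.mul_le_mul_left q hp3
  rcases five_points_or_three_cycle (hp.odd_of_ne_two (by omega)) hk hx with
    ⟨f, hf, f0, f1, f3⟩ | ⟨t3, t2, tfix⟩
  · set g : Fin 5 → ℕ := ![0, q, q + 2, q + 1, L - 1] with hg
    have hgL : ∀ i, g i < L := by
      intro i; fin_cases i <;> simp [hg] <;> omega
    have hginj : Function.Injective g :=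
      injective_five (by omega) (by omega) (by omega) (by omega) (by omega) (by omega) (by omega)
        (by omega) (by omega) (by omega)
    have hginj' : Function.Injective fun i => ((g i : ℕ) : ZMod L) := fun i j hij =>
      hginj (not_not.mp fun h => natCast_ne (hgL i) (hgL j) h hij)
    obtain ⟨π, hπ⟩ := exists_perm_map f (fun i => ((g i : ℕ) : ZMod L)) hf hginj'
    have key : ∀ θ : Perm (ZMod L), (∀ i, θ (g i : ZMod L) = (g i : ZMod L)) →
        Good p (shift L) (θ * π * σ₀ * (θ * π)⁻¹) := by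
      intro θ hθ
      have hval : ∀ i, (θ * π) (f i) = (g i : ZMod L) := fun i => by
        rw [Perm.mul_apply, hπ, hθ]
      have e : ∀ i j, σ₀ (f i) = f j →
          (θ * π * σ₀ * (θ * π)⁻¹) (g i : ZMod L) = (g j : ZMod L) := fun i j h => by
        rw [← hval i, hconj, h, hval]
      refine good_of_arrows hp3 ha hL (by omega) ⟨k, hkc _⟩ ?_ (e 1 2 f1) ?_
      · have := e 0 1 f0
        rwa [show g 0 = 0 from rfl, show g 1 = q from rfl, Nat.cast_zero] at this
      · have := e 3 4 f3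
        rwa [show g 3 = q + 1 from rfl, show g 4 = L - 1 from rfl,
          Nat.cast_sub (show 1 ≤ L by omega), ZMod.natCast_self, zero_sub, Nat.cast_one] at this
    obtain ⟨τ, hτ, hτfix⟩ := htwo (Finset.univ.image fun i => ((g i : ℕ) : ZMod L))
      (Finset.card_image_le.trans (by simp))
    refine ⟨π * σ₀ * π⁻¹, τ, isConj_iff.mpr ⟨π, rfl⟩, hτ, ?_, ?_⟩
    · simpa using key 1 (fun _ => rfl)
    · have := key τ (fun i => hτfix _ (Finset.mem_image.mpr ⟨i, Finset.mem_univ _, rfl⟩))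
      rwa [show τ * π * σ₀ * (τ * π)⁻¹ = τ * (π * σ₀ * π⁻¹) * τ⁻¹ by group] at this
  · have hx2 : σ₀ (σ₀ x) ≠ σ₀ x := fun h => hx (σ₀.injective h)
    have hfinj : Function.Injective ![x, σ₀ x, σ₀ (σ₀ x)] := by
      intro i j hij
      fin_cases i <;> fin_cases j <;> first
        | rfl
        | (exfalso
           first
           | exact hx hij.symm
           | exact t2 hij.symm
           | exact hx2 hij.symm
           | exact hx hij
           | exact t2 hij
           | exact hx2 hij)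
    set g : Fin 3 → ℕ := ![0, 2, 1] with hg
    have hgL : ∀ i, g i < L := by intro i; fin_cases i <;> simp [hg] <;> omega
    have hginj' : Function.Injective fun i => ((g i : ℕ) : ZMod L) := fun i j hij =>
      (show Function.Injective g by decide) (not_not.mp fun h => natCast_ne (hgL i) (hgL j) h hij)
    obtain ⟨π, hπ⟩ := exists_perm_map _ (fun i => ((g i : ℕ) : ZMod L)) hfinj hginj'
    have p0 : π x = 0 := by simpa [hg] using hπ 0
    have p1 : π (σ₀ x) = 2 := by simpa [hg] using hπ 1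
    have p2 : π (σ₀ (σ₀ x)) = 1 := by simpa [hg] using hπ 2
    set σ := π * σ₀ * π⁻¹ with hσdef
    have s0 : σ 0 = 2 := by rw [← p0, hσdef, hconj, p1]
    have s2 : σ 2 = 1 := by rw [← p1, hσdef, hconj, p2]
    have s1 : σ 1 = 0 := by rw [← p2, hσdef, hconj, t3, p0]
    have sfix : ∀ z, z ≠ 0 → z ≠ 1 → z ≠ 2 → σ z = z := by
      intro z a b c
      obtain ⟨w, rfl⟩ := π.surjective z
      rw [hσdef, hconj, tfix w (fun h => a (h ▸ p0)) (fun h => c (h ▸ p1)) (fun h => b (h ▸ p2))]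
    have hord : σ₀ ^ 3 = 1 := by
      refine Perm.ext fun z => ?_
      show (σ₀ ^ 3) z = z
      rw [pow_succ, pow_two, Perm.mul_apply, Perm.mul_apply]
      by_cases e0 : z = x
      · rw [e0]; exact t3
      by_cases e1 : z = σ₀ x
      · rw [e1]; exact congrArg σ₀ t3
      by_cases e2 : z = σ₀ (σ₀ x)
      · rw [e2]; exact congrArg σ₀ (congrArg σ₀ t3)
      · rw [tfix z e0 e1 e2, tfix z e0 e1 e2, tfix z e0 e1 e2]
    have hp_eq : p = 3 := by
      haveI : Fact (Nat.Prime 3) := ⟨Nat.prime_three⟩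
      have h1 : orderOf σ₀ = 3 := orderOf_eq_prime hord hne
      have h2 : 3 ∣ p ^ k := h1 ▸ orderOf_dvd_of_pow_eq_one hk
      exact ((Nat.prime_dvd_prime_iff_eq Nat.prime_three hp).mp
        (Nat.prime_three.dvd_of_dvd_pow h2)).symm
    have ha2 : 2 ≤ a := by
      rcases Nat.lt_or_ge a 2 with h | h
      · rw [show a = 1 by omega, pow_one] at hL; omega
      · exact h
    have hgood := good_of_three hp_eq ha2 hL ⟨k, hkc π⟩ s0 s2 s1 sfix
    obtain ⟨τ, hτ, hτfix⟩ := htwo {0, 1, 2} (Finset.card_le_three.trans (by norm_num))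
    refine ⟨σ, τ, isConj_iff.mpr ⟨π, rfl⟩, hτ, hgood, ?_⟩
    have t0 : τ 0 = 0 := hτfix 0 (by simp)
    have t1 : τ 1 = 1 := hτfix 1 (by simp)
    have t2' : τ 2 = 2 := hτfix 2 (by simp)
    have : τ * σ * τ⁻¹ = σ := by
      refine Perm.ext fun z => ?_
      obtain ⟨w, rfl⟩ := τ.surjective z
      rw [Perm.mul_apply, Perm.mul_apply, show τ⁻¹ (τ w) = w from τ.symm_apply_apply w]
      by_cases e0 : w = 0
      · rw [e0, s0, t2', t0, s0]
      by_cases e1 : w = 1
      · rw [e1, s1, t0, t1, s1]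
      by_cases e2 : w = 2
      · rw [e2, s2, t1, t2', s2]
      · have u0 : τ w ≠ 0 := fun h => e0 (τ.injective (h.trans t0.symm))
        have u1 : τ w ≠ 1 := fun h => e1 (τ.injective (h.trans t1.symm))
        have u2 : τ w ≠ 2 := fun h => e2 (τ.injective (h.trans t2'.symm))
        rw [sfix w e0 e1 e2, sfix _ u0 u1 u2]
    rw [this]; exact hgood

end CfsgLib.AltFreePair
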