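import Cfsg.Agent.AltFreePair.Basic

/-!
# Transporting good pairs into larger symmetric groups
-/

namespace CfsgLib.AltFreePair

open Equiv

theorem cycleType_sumCongr {α β : Type*} [Fintype α] [DecidableEq α] [Fintype β] [DecidableEq β]
    (σ : Perm α) (ρ : Perm β) :
    (Perm.sumCongr σ ρ).cycleType = σ.cycleType + ρ.cycleType := by
  classical
  let fl : α ≃ {x : α ⊕ β // x ∈ Set.range (Sum.inl : α → α ⊕ β)} :=
    Equiv.ofInjective _ Sum.inl_injective
  let fr : β ≃ {x : α ⊕ β // x ∈ Set.range (Sum.inr : β → α ⊕ β)} :=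
    Equiv.ofInjective _ Sum.inr_injective
  have hl : Perm.sumCongr σ (1 : Perm β) = σ.extendDomain fl := by
    refine Perm.ext fun x => ?_
    rcases x with x | x
    · exact (Perm.extendDomain_apply_image σ fl x).symm
    · exact (Perm.extendDomain_apply_not_subtype σ fl (by simp)).symm
  have hr : Perm.sumCongr (1 : Perm α) ρ = ρ.extendDomain fr := by
    refine Perm.ext fun x => ?_
    rcases x with x | x
    · exact (Perm.extendDomain_apply_not_subtype ρ fr (by simp)).symm
    · exact (Perm.extendDomain_apply_image ρ fr x).symm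
  have hd : Perm.Disjoint (Perm.sumCongr σ (1 : Perm β)) (Perm.sumCongr (1 : Perm α) ρ) := by
    intro x
    rcases x with x | x
    · exact Or.inr rfl
    · exact Or.inl rfl
  have e : Perm.sumCongr σ ρ = Perm.sumCongr σ (1 : Perm β) * Perm.sumCongr (1 : Perm α) ρ := by
    rw [Perm.sumCongr_mul, mul_one, one_mul]
  rw [e, hd.cycleType_mul, hl, hr, Perm.cycleType_extendDomain, Perm.cycleType_extendDomain]

theorem cycleType_permCongr {α β : Type*} [Fintype α] [DecidableEq α] [Fintype β] [DecidableEq β]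
    (e : α ≃ β) (σ : Perm α) : (e.permCongr σ).cycleType = σ.cycleType := by
  classical
  let f : α ≃ {x : β // x ∈ Set.range e} := Equiv.ofInjective _ e.injective
  have : e.permCongr σ = σ.extendDomain f := by
    refine Perm.ext fun y => ?_
    obtain ⟨x, rfl⟩ := e.surjective y
    rw [Equiv.permCongr_apply, Equiv.symm_apply_apply]
    exact (Perm.extendDomain_apply_image σ f x).symm
  rw [this, Perm.cycleType_extendDomain]

/-- A good pair on part of the points gives a good pair of conjugates by an even permutation. -/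
theorem exists_good_conj {n p : ℕ} {α : Type*} [Fintype α] [DecidableEq α]
    (hcard : Fintype.card α ≤ n) {u w : Perm (Fin n)} (su sw τ : Perm α)
    (hu : su.cycleType ≤ u.cycleType)
    (hu' : u.cycleType.sum + Fintype.card α ≤ n + su.cycleType.sum)
    (hw : sw.cycleType ≤ w.cycleType)
    (hw' : w.cycleType.sum + Fintype.card α ≤ n + sw.cycleType.sum)
    (hτ : Perm.sign τ = -1) (h1 : Good p su sw) (h2 : Good p su (τ * sw * τ⁻¹)) :
    ∃ g : Perm (Fin n), Perm.sign g = 1 ∧ Good p u (g * w * g⁻¹) := by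
  set m := n - Fintype.card α
  let e : α ⊕ Fin m ≃ Fin n :=
    Fintype.equivFinOfCardEq (by rw [Fintype.card_sum, Fintype.card_fin]; omega)
  have hrest : ∀ (x : Perm (Fin n)) (sx : Perm α), sx.cycleType ≤ x.cycleType →
      x.cycleType.sum + Fintype.card α ≤ n + sx.cycleType.sum →
      ∃ ρ : Perm (Fin m), IsConj x (e.permCongr (Perm.sumCongr sx ρ)) := by
    intro x sx hle hsum
    have hsum' : x.cycleType.sum = sx.cycleType.sum + (x.cycleType - sx.cycleType).sum := by
      rw [← Multiset.sum_add, add_tsub_cancel_of_le hle]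
    obtain ⟨ρ, hρ⟩ := (Perm.exists_with_cycleType_iff (Fin m)).mpr
      ⟨show (x.cycleType - sx.cycleType).sum ≤ Fintype.card (Fin m) by
          rw [Fintype.card_fin]; omega,
        fun a ha => Perm.two_le_of_mem_cycleType
          (Multiset.mem_of_le (Multiset.sub_le_self _ _) ha)⟩
    refine ⟨ρ, Perm.isConj_iff_cycleType_eq.mpr ?_⟩
    rw [cycleType_permCongr, cycleType_sumCongr, hρ, add_tsub_cancel_of_le hle]
  obtain ⟨ρu, hρu⟩ := hrest u su hu hu'
  obtain ⟨ρw, hρw⟩ := hrest w sw hw hw'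
  obtain ⟨h, hh⟩ := isConj_iff.mp hρu
  obtain ⟨k, hk⟩ := isConj_iff.mp hρw
  let F : Perm α × Perm (Fin m) →* Perm (Fin n) :=
    e.permCongrHom.toMonoidHom.comp (Perm.sumCongrHom α (Fin m))
  have hF : Function.Injective F :=
    e.permCongrHom.injective.comp Perm.sumCongrHom_injective
  have key : ∀ θ : Perm α, Good p su (θ * sw * θ⁻¹) →
      Good p u ((h⁻¹ * (F (θ, 1) * k)) * w * (h⁻¹ * (F (θ, 1) * k))⁻¹) := by
    intro θ hθ
    have hpair : Good p ((su, ρu) : Perm α × Perm (Fin m)) (θ * sw * θ⁻¹, ρw) :=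
      Good.of_map (MonoidHom.fst _ _) rfl rfl hθ
    have hU : F (su, ρu) = h * u * h⁻¹ := hh.symm
    have hW : F (θ * sw * θ⁻¹, ρw) = F (θ, 1) * (k * w * k⁻¹) * (F (θ, 1))⁻¹ := by
      have e1 : ((θ * sw * θ⁻¹, ρw) : Perm α × Perm (Fin m)) = (θ, 1) * (sw, ρw) * (θ, 1)⁻¹ := by
        simp [Prod.ext_iff]
      rw [e1, map_mul, map_mul, map_inv]
      congr 2
      exact hk.symm
    have h3 := (hpair.map F hF).conj h⁻¹
    rw [hU, hW] at h3
    have e2 : h⁻¹ * (h * u * h⁻¹) * h⁻¹⁻¹ = u := by group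
    have e3 : h⁻¹ * (F (θ, 1) * (k * w * k⁻¹) * (F (θ, 1))⁻¹) * h⁻¹⁻¹
        = (h⁻¹ * (F (θ, 1) * k)) * w * (h⁻¹ * (F (θ, 1) * k))⁻¹ := by group
    rwa [e2, e3] at h3
  have hsign : ∀ θ : Perm α, Perm.sign (F (θ, 1)) = Perm.sign θ := by
    intro θ
    change Perm.sign (e.permCongr (Perm.sumCongr θ (1 : Perm (Fin m)))) = _
    rw [Perm.sign_permCongr, Perm.sign_sumCongr, map_one, mul_one]
  rcases Int.units_eq_one_or (Perm.sign (h⁻¹ * k)) with hs | hs
  · refine ⟨h⁻¹ * (F (1, 1) * k), ?_, key 1 (by simpa using h1)⟩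
    rw [show ((1 : Perm α), (1 : Perm (Fin m))) = 1 from rfl, map_one, one_mul, hs]
  · refine ⟨h⁻¹ * (F (τ, 1) * k), ?_, key τ h2⟩
    rw [map_mul, map_mul, hsign, hτ]
    rw [map_mul] at hs
    calc Perm.sign h⁻¹ * (-1 * Perm.sign k) = -(Perm.sign h⁻¹ * Perm.sign k) := by simp
      _ = 1 := by rw [hs]; simp

end CfsgLib.AltFreePair
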