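import Cfsg.Agent.AltFreePair.Basic

/-!
# Explicit good pairs in degree five and six
-/

namespace CfsgLib.AltFreePair

open Equiv

theorem good_five_three :
    Good 3 (([0, 1, 2] : List (Fin 5)).formPerm) (([2, 3, 4] : List (Fin 5)).formPerm) ∧
      Good 3 (([0, 1, 2] : List (Fin 5)).formPerm)
        (swap 0 1 * ([2, 3, 4] : List (Fin 5)).formPerm * (swap 0 1)⁻¹) := by
  set u := ([0, 1, 2] : List (Fin 5)).formPerm
  set w := ([2, 3, 4] : List (Fin 5)).formPerm
  have e : swap 0 1 * w * (swap 0 1)⁻¹ = w := by decide +kernel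
  rw [e, and_self_iff]
  have hu : u ∈ Subgroup.closure ({u, w} : Set (Perm (Fin 5))) :=
    Subgroup.subset_closure (Or.inl rfl)
  have hw : w ∈ Subgroup.closure ({u, w} : Set (Perm (Fin 5))) :=
    Subgroup.subset_closure (Or.inr rfl)
  exact good_of_words (a := u * u * w * u * w) (b := u) (m := 5) (by norm_num) (by decide +kernel)
    (by decide +kernel) (mul_mem (mul_mem (mul_mem (mul_mem hu hu) hw) hu) hw) hu
    (by decide +kernel) (by decide +kernel) (by decide +kernel) (by decide +kernel)

theorem good_six_two_one :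
    Good 3 (([0, 1, 2] : List (Fin 6)).formPerm * ([3, 4, 5] : List (Fin 6)).formPerm)
        (([2, 3, 4] : List (Fin 6)).formPerm) ∧
      Good 3 (([0, 1, 2] : List (Fin 6)).formPerm * ([3, 4, 5] : List (Fin 6)).formPerm)
        (swap 0 1 * ([2, 3, 4] : List (Fin 6)).formPerm * (swap 0 1)⁻¹) := by
  set u := ([0, 1, 2] : List (Fin 6)).formPerm * ([3, 4, 5] : List (Fin 6)).formPerm
  set w := ([2, 3, 4] : List (Fin 6)).formPerm
  have e : swap 0 1 * w * (swap 0 1)⁻¹ = w := by decide +kernel
  rw [e, and_self_iff]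
  have hu : u ∈ Subgroup.closure ({u, w} : Set (Perm (Fin 6))) :=
    Subgroup.subset_closure (Or.inl rfl)
  have hw : w ∈ Subgroup.closure ({u, w} : Set (Perm (Fin 6))) :=
    Subgroup.subset_closure (Or.inr rfl)
  exact good_of_words (a := u * w * u * w) (b := u) (m := 4) (by norm_num) (by decide +kernel)
    (by decide +kernel) (mul_mem (mul_mem (mul_mem hu hw) hu) hw) hu
    (by decide +kernel) (by decide +kernel) (by decide +kernel) (by decide +kernel)

theorem good_six_one_two :
    Good 3 (([0, 1, 2] : List (Fin 6)).formPerm)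
        (([0, 1, 3] : List (Fin 6)).formPerm * ([2, 4, 5] : List (Fin 6)).formPerm) ∧
      Good 3 (([0, 1, 2] : List (Fin 6)).formPerm)
        (swap 0 4 * (([0, 1, 3] : List (Fin 6)).formPerm * ([2, 4, 5] : List (Fin 6)).formPerm)
          * (swap 0 4)⁻¹) := by
  set u := ([0, 1, 2] : List (Fin 6)).formPerm
  set w := ([0, 1, 3] : List (Fin 6)).formPerm * ([2, 4, 5] : List (Fin 6)).formPerm
  set w' := swap 0 4 * w * (swap 0 4)⁻¹
  constructor
  · have hu : u ∈ Subgroup.closure ({u, w} : Set (Perm (Fin 6))) :=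
      Subgroup.subset_closure (Or.inl rfl)
    have hw : w ∈ Subgroup.closure ({u, w} : Set (Perm (Fin 6))) :=
      Subgroup.subset_closure (Or.inr rfl)
    exact good_of_words (a := u * w * u * w) (b := u) (m := 4) (by norm_num) (by decide +kernel)
      (by decide +kernel) (mul_mem (mul_mem (mul_mem hu hw) hu) hw) hu
      (by decide +kernel) (by decide +kernel) (by decide +kernel) (by decide +kernel)
  · have hu : u ∈ Subgroup.closure ({u, w'} : Set (Perm (Fin 6))) :=
      Subgroup.subset_closure (Or.inl rfl)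
    have hw : w' ∈ Subgroup.closure ({u, w'} : Set (Perm (Fin 6))) :=
      Subgroup.subset_closure (Or.inr rfl)
    exact good_of_words (a := u * w' * u * w') (b := u) (m := 4) (by norm_num) (by decide +kernel)
      (by decide +kernel) (mul_mem (mul_mem (mul_mem hu hw) hu) hw) hu
      (by decide +kernel) (by decide +kernel) (by decide +kernel) (by decide +kernel)

theorem good_six_two_two :
    Good 3 (([0, 1, 2] : List (Fin 6)).formPerm * ([3, 4, 5] : List (Fin 6)).formPerm)
        (([0, 1, 3] : List (Fin 6)).formPerm * ([2, 5, 4] : List (Fin 6)).formPerm) ∧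
      Good 3 (([0, 1, 2] : List (Fin 6)).formPerm * ([3, 4, 5] : List (Fin 6)).formPerm)
        (swap 0 4 * (([0, 1, 3] : List (Fin 6)).formPerm * ([2, 5, 4] : List (Fin 6)).formPerm)
          * (swap 0 4)⁻¹) := by
  set u := ([0, 1, 2] : List (Fin 6)).formPerm * ([3, 4, 5] : List (Fin 6)).formPerm
  set w := ([0, 1, 3] : List (Fin 6)).formPerm * ([2, 5, 4] : List (Fin 6)).formPerm
  set w' := swap 0 4 * w * (swap 0 4)⁻¹
  constructor
  · have hu : u ∈ Subgroup.closure ({u, w} : Set (Perm (Fin 6))) :=
      Subgroup.subset_closure (Or.inl rfl)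
    have hw : w ∈ Subgroup.closure ({u, w} : Set (Perm (Fin 6))) :=
      Subgroup.subset_closure (Or.inr rfl)
    exact good_of_words (a := u * u * w * u * w) (b := u) (m := 5) (by norm_num)
      (by decide +kernel) (by decide +kernel)
      (mul_mem (mul_mem (mul_mem (mul_mem hu hu) hw) hu) hw) hu
      (by decide +kernel) (by decide +kernel) (by decide +kernel) (by decide +kernel)
  · have hu : u ∈ Subgroup.closure ({u, w'} : Set (Perm (Fin 6))) :=
      Subgroup.subset_closure (Or.inl rfl)
    have hw : w' ∈ Subgroup.closure ({u, w'} : Set (Perm (Fin 6))) :=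
      Subgroup.subset_closure (Or.inr rfl)
    exact good_of_words (a := u * u * w' * u * w') (b := u) (m := 5) (by norm_num)
      (by decide +kernel) (by decide +kernel)
      (mul_mem (mul_mem (mul_mem (mul_mem hu hu) hw) hu) hw) hu
      (by decide +kernel) (by decide +kernel) (by decide +kernel) (by decide +kernel)

theorem good_five_five :
    Good 5 (([0, 1, 2, 3, 4] : List (Fin 5)).formPerm)
        (([0, 1, 2, 4, 3] : List (Fin 5)).formPerm) ∧
      Good 5 (([0, 1, 2, 3, 4] : List (Fin 5)).formPerm)
        (swap 0 1 * ([0, 1, 2, 4, 3] : List (Fin 5)).formPerm * (swap 0 1)⁻¹) := by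
  set u := ([0, 1, 2, 3, 4] : List (Fin 5)).formPerm
  set w := ([0, 1, 2, 4, 3] : List (Fin 5)).formPerm
  set w' := swap 0 1 * w * (swap 0 1)⁻¹
  constructor
  · have hu : u ∈ Subgroup.closure ({u, w} : Set (Perm (Fin 5))) :=
      Subgroup.subset_closure (Or.inl rfl)
    have hw : w ∈ Subgroup.closure ({u, w} : Set (Perm (Fin 5))) :=
      Subgroup.subset_closure (Or.inr rfl)
    exact good_of_words (a := u * w) (b := u * u * u * w) (m := 2) (by norm_num)
      (by decide +kernel) (by decide +kernel) (mul_mem hu hw)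
      (mul_mem (mul_mem (mul_mem hu hu) hu) hw)
      (by decide +kernel) (by decide +kernel) (by decide +kernel) (by decide +kernel)
  · have hu : u ∈ Subgroup.closure ({u, w'} : Set (Perm (Fin 5))) :=
      Subgroup.subset_closure (Or.inl rfl)
    have hw : w' ∈ Subgroup.closure ({u, w'} : Set (Perm (Fin 5))) :=
      Subgroup.subset_closure (Or.inr rfl)
    exact good_of_words (a := u * u * w') (b := u * w') (m := 3) (by norm_num)
      (by decide +kernel) (by decide +kernel) (mul_mem (mul_mem hu hu) hw) (mul_mem hu hw)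
      (by decide +kernel) (by decide +kernel) (by decide +kernel) (by decide +kernel)

end CfsgLib.AltFreePair
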