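import Cfsg.Agent.AltFreePair.Core
import Cfsg.Agent.AltFreePair.Small
import Cfsg.Agent.AltFreePair.Lift

/-!
# Two `p`-elements of an alternating group generating a non-solvable group
-/

namespace CfsgLib.AltFreePair

open Equiv

variable {p : ℕ}

/-- A multiset of powers of `p`, all at most `p^a`, with sum at least `p^a` has a sub-multiset
of sum exactly `p^a`. -/
theorem exists_sub_sum_eq (hp : 2 ≤ p) :
    ∀ (a : ℕ) (s : Multiset ℕ), (∀ x ∈ s, ∃ i ≤ a, x = p ^ i) → p ^ a ≤ s.sum →
      ∃ C ≤ s, C.sum = p ^ a := by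
  intro a
  induction a with
  | zero =>
    intro s hs hsum
    have hne : s ≠ 0 := fun h => by simp [h] at hsum
    obtain ⟨x, hx⟩ := Multiset.exists_mem_of_ne_zero hne
    obtain ⟨i, hi, rfl⟩ := hs x hx
    refine ⟨{p ^ i}, Multiset.singleton_le.mpr hx, ?_⟩
    rw [Multiset.sum_singleton, Nat.le_zero.mp hi]
  | succ a ih =>
    intro s hs hsum
    by_cases htop : p ^ (a + 1) ∈ s
    · exact ⟨{p ^ (a + 1)}, Multiset.singleton_le.mpr htop, Multiset.sum_singleton _⟩
    have hs' : ∀ x ∈ s, ∃ i ≤ a, x = p ^ i := by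
      intro x hx
      obtain ⟨i, hi, rfl⟩ := hs x hx
      rcases hi.lt_or_eq with h | h
      · exact ⟨i, Nat.lt_succ_iff.mp h, rfl⟩
      · exact absurd (h ▸ hx) htop
    have key : ∀ j ≤ p, ∃ C ≤ s, C.sum = j * p ^ a := by
      intro j
      induction j with
      | zero => intro _; exact ⟨0, Multiset.zero_le _, by simp⟩
      | succ j ihj =>
        intro hj
        obtain ⟨C, hC, hCs⟩ := ihj (by omega)
        have hsplit : s.sum = C.sum + (s - C).sum := by
          rw [← Multiset.sum_add, add_tsub_cancel_of_le hC]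
        have hle : (j + 1) * p ^ a ≤ p ^ (a + 1) := by
          rw [pow_succ']; exact Nat.mul_le_mul_right _ hj
        obtain ⟨D, hD, hDs⟩ := ih (s - C)
          (fun x hx => hs' x (Multiset.mem_of_le (Multiset.sub_le_self _ _) hx))
          (by rw [add_mul, one_mul] at hle; omega)
        refine ⟨C + D, ?_, by rw [Multiset.sum_add, hCs, hDs, add_mul, one_mul]⟩
        calc C + D ≤ C + (s - C) := add_le_add le_rfl hD
          _ = s := add_tsub_cancel_of_le hC
    obtain ⟨C, hC, hCs⟩ := key p le_rfl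
    exact ⟨C, hC, by rw [hCs, pow_succ']⟩

theorem cycleType_eq_singleton_of_pow {m q : ℕ} (hq : q.Prime) (hm : m < 2 * q)
    {σ : Perm (Fin m)} (h1 : σ ^ q = 1) (h2 : σ ≠ 1) : σ.cycleType = {q} := by
  haveI := Fact.mk hq
  obtain ⟨i, hi⟩ := Perm.cycleType_prime_order (σ := σ) (by
    have := orderOf_eq_prime h1 h2; rw [this]; exact hq)
  rw [orderOf_eq_prime h1 h2] at hi
  have hle := Perm.sum_cycleType_le σ
  rw [hi, Multiset.sum_replicate, Fintype.card_fin, smul_eq_mul] at hle
  have : i = 0 := by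
    by_contra h
    have : 2 * q ≤ (i + 1) * q := Nat.mul_le_mul_right q (by omega)
    omega
  rw [hi, this]; rfl

theorem cycleType_shift (L : ℕ) [NeZero L] (hL : 2 ≤ L) : (shift L).cycleType = {L} := by
  have hsupp : (shift L).support = Finset.univ := by
    refine Finset.eq_univ_of_forall fun x => Perm.mem_support.mpr fun h => ?_
    rw [shift_apply, add_eq_left] at h
    haveI : Fact (1 < L) := ⟨hL⟩
    exact one_ne_zero h
  have hcyc : Perm.IsCycle (shift L) := by
    haveI : Fact (1 < L) := ⟨hL⟩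
    refine ⟨0, fun h => one_ne_zero (α := ZMod L) (by rw [shift_apply, zero_add] at h; exact h),
      fun y _ => ⟨(y.val : ℤ), ?_⟩⟩
    rw [zpow_natCast, shift_pow_apply, zero_add, ZMod.natCast_zmod_val]
  rw [hcyc.cycleType, hsupp, Finset.card_univ, ZMod.card]

/-- The case where `u` has a cycle at least as long as all cycles of `w`. -/
theorem exists_good_of_max {n : ℕ} (hn : 5 ≤ n) [Fact p.Prime] (hp3 : 3 ≤ p)
    {u w : Perm (Fin n)} (hu : ∃ k : ℕ, u ^ p ^ k = 1) (hw : ∃ k : ℕ, w ^ p ^ k = 1)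
    (hw1 : w ≠ 1) {L : ℕ} (hLu : L ∈ u.cycleType) (huL : ∀ x ∈ u.cycleType, x ≤ L)
    (hwL : ∀ x ∈ w.cycleType, x ≤ L) :
    ∃ g : Perm (Fin n), Perm.sign g = 1 ∧ Good p u (g * w * g⁻¹) := by
  have hp := (Fact.out : p.Prime)
  have hpow : ∀ {x : Perm (Fin n)}, (∃ k : ℕ, x ^ p ^ k = 1) → ∀ l ∈ x.cycleType,
      ∃ i, 1 ≤ i ∧ l = p ^ i := by
    intro x hx l hl
    obtain ⟨k, hk⟩ := hx
    obtain ⟨i, -, rfl⟩ := (Nat.dvd_prime_pow hp).mp
      ((Perm.dvd_of_mem_cycleType hl).trans (orderOf_dvd_of_pow_eq_one hk))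
    refine ⟨i, Nat.one_le_iff_ne_zero.mpr fun h => ?_, rfl⟩
    have := Perm.two_le_of_mem_cycleType hl
    rw [h, pow_zero] at this
    omega
  obtain ⟨a, ha, rfl⟩ := hpow hu L hLu
  have hbd : ∀ {x : Perm (Fin n)}, (∃ k : ℕ, x ^ p ^ k = 1) → (∀ l ∈ x.cycleType, l ≤ p ^ a) →
      ∀ l ∈ x.cycleType, ∃ i ≤ a, l = p ^ i := by
    intro x hx hle l hl
    obtain ⟨i, -, rfl⟩ := hpow hx l hl
    exact ⟨i, (Nat.pow_le_pow_iff_right hp.one_lt).mp (hle _ hl), rfl⟩
  have hune : u.cycleType ≠ 0 := fun h => by simp [h] at hLu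
  have hwne : w.cycleType ≠ 0 := fun h => hw1 (Perm.cycleType_eq_zero.mp h)
  have hsum_le : ∀ x : Perm (Fin n), x.cycleType.sum ≤ n := fun x => by
    simpa using Perm.sum_cycleType_le x
  have hLn : p ^ a ≤ n := le_trans (Multiset.le_sum_of_mem hLu) (hsum_le u)
  by_cases h5 : 5 ≤ p ^ a
  · haveI : NeZero (p ^ a) := ⟨by positivity⟩
    -- a part of `w` of size `p^a`
    obtain ⟨C, hC, hC0, hCsum, hCfit⟩ : ∃ C ≤ w.cycleType, C ≠ 0 ∧ C.sum ≤ p ^ a ∧
        w.cycleType.sum + p ^ a ≤ n + C.sum := by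
      rcases Nat.lt_or_ge w.cycleType.sum (p ^ a) with h | h
      · exact ⟨_, le_rfl, hwne, h.le, by omega⟩
      · obtain ⟨C, hC, hCs⟩ := exists_sub_sum_eq hp.two_le a _ (hbd hw hwL) h
        refine ⟨C, hC, fun h0 => ?_, hCs.le, by have := hsum_le w; omega⟩
        rw [h0, Multiset.sum_zero] at hCs
        omega
    have hcardZ : Fintype.card (ZMod (p ^ a)) = p ^ a := ZMod.card _
    have hushift : (shift (p ^ a)).cycleType ≤ u.cycleType := by
      rw [cycleType_shift _ (by omega)]; exact Multiset.singleton_le.mpr hLu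
    have hushift' : u.cycleType.sum + Fintype.card (ZMod (p ^ a))
        ≤ n + (shift (p ^ a)).cycleType.sum := by
      rw [cycleType_shift _ (by omega), Multiset.sum_singleton, hcardZ]
      have := hsum_le u; omega
    obtain ⟨σ₀, hσ₀⟩ := (Perm.exists_with_cycleType_iff (ZMod (p ^ a))).mpr
      ⟨show C.sum ≤ _ by rw [hcardZ]; exact hCsum,
        fun x hx => Perm.two_le_of_mem_cycleType (Multiset.mem_of_le hC hx)⟩
    have hσp : ∃ k : ℕ, σ₀ ^ p ^ k = 1 := by
      obtain ⟨k, hk⟩ := hw
      refine ⟨k, orderOf_dvd_iff_pow_eq_one.mp ?_⟩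
      rw [← Perm.lcm_cycleType, hσ₀, Multiset.lcm_dvd]
      exact fun x hx => (Perm.dvd_of_mem_cycleType (Multiset.mem_of_le hC hx)).trans
        (orderOf_dvd_of_pow_eq_one hk)
    have hσne : σ₀ ≠ 1 := fun h => hC0 (by rw [← hσ₀, h, Perm.cycleType_one])
    by_cases h7 : 7 ≤ p ^ a
    · obtain ⟨σ, τ, hconj, hτ, g1, g2⟩ := exists_good (a := a) hp3 rfl h7 hσp hσne
      have hσct : σ.cycleType = C := by
        rw [← Perm.isConj_iff_cycleType_eq.mp hconj, hσ₀]
      exact exists_good_conj (by rw [hcardZ]; exact hLn) (shift (p ^ a)) σ τ hushift hushift'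
        (hσct.le.trans hC) (by rw [hσct, hcardZ]; exact hCfit) hτ g1 g2
    · -- degree five
      have hL5 : p ^ a = 5 := by
        have hodd : Odd (p ^ a) := (hp.odd_of_ne_two (by omega)).pow
        obtain ⟨t, ht⟩ := hodd
        omega
      have hp5 : p = 5 := (Nat.prime_dvd_prime_iff_eq hp Nat.prime_five).mp
        (hL5 ▸ dvd_pow_self p (by omega))
      subst hp5
      have hC5 : C = {5} := by
        have hall : ∀ x ∈ C, x = 5 := fun x hx => by
          obtain ⟨i, hi, rfl⟩ := hpow hw x (Multiset.mem_of_le hC hx)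
          have h1 := (hwL _ (Multiset.mem_of_le hC hx)).trans hL5.le
          have h2 : 5 ^ i = 5 := le_antisymm h1 (Nat.le_self_pow (by omega) 5)
          exact h2
        rw [Multiset.eq_replicate_of_mem hall, Multiset.sum_replicate, smul_eq_mul] at hCsum
        have hc1 : C.card = 1 := by
          have : C.card ≠ 0 := fun h => hC0 (Multiset.card_eq_zero.mp h)
          omega
        rw [Multiset.eq_replicate_of_mem hall, hc1]; rfl
      obtain ⟨g1, g2⟩ := good_five_five
      have hu5 := cycleType_eq_singleton_of_pow (m := 5) Nat.prime_five (by norm_num)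
        (σ := ([0, 1, 2, 3, 4] : List (Fin 5)).formPerm) (by decide +kernel) (by decide +kernel)
      have hw5 := cycleType_eq_singleton_of_pow (m := 5) Nat.prime_five (by norm_num)
        (σ := ([0, 1, 2, 4, 3] : List (Fin 5)).formPerm) (by decide +kernel) (by decide +kernel)
      rw [cycleType_shift _ (by omega), hL5] at hushift
      rw [cycleType_shift _ (by omega), hcardZ, hL5] at hushift'
      refine exists_good_conj (by rw [Fintype.card_fin]; omega) _ _ (swap 0 1) ?_ ?_ ?_ ?_
        (Perm.sign_swap (by decide)) g1 g2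
      · rw [hu5]; exact hushift
      · rw [hu5, Fintype.card_fin]; exact hushift'
      · rw [hw5, ← hC5]; exact hC
      · rw [hw5, Fintype.card_fin, ← hC5]; rw [hL5] at hCfit; exact hCfit
  · -- all cycles have length three
    have hpa : p ^ a = 3 := by
      have h1 : p ≤ p ^ a := Nat.le_self_pow (by omega) p
      have hodd : Odd (p ^ a) := (hp.odd_of_ne_two (by omega)).pow
      obtain ⟨t, ht⟩ := hodd
      omega
    have hp_eq : p = 3 := (Nat.prime_dvd_prime_iff_eq hp Nat.prime_three).mp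
      (hpa ▸ dvd_pow_self p (by omega))
    subst hp_eq
    have hall : ∀ {x : Perm (Fin n)}, (∃ k : ℕ, x ^ 3 ^ k = 1) → (∀ l ∈ x.cycleType, l ≤ 3 ^ a) →
        x.cycleType = Multiset.replicate x.cycleType.card 3 := by
      intro x hx hle
      refine Multiset.eq_replicate_of_mem fun l hl => ?_
      obtain ⟨i, hi, rfl⟩ := hpow hx l hl
      exact le_antisymm ((hle _ hl).trans hpa.le) (Nat.le_self_pow (by omega) 3)
    have hucard : 1 ≤ u.cycleType.card := Nat.one_le_iff_ne_zero.mpr fun h =>
      hune (Multiset.card_eq_zero.mp h)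
    have hwcard : 1 ≤ w.cycleType.card := Nat.one_le_iff_ne_zero.mpr fun h =>
      hwne (Multiset.card_eq_zero.mp h)
    have hufull := hall hu huL
    have hwfull := hall hw hwL
    have husum : u.cycleType.sum = u.cycleType.card * 3 := by
      conv_lhs => rw [hufull]
      rw [Multiset.sum_replicate, smul_eq_mul]
    have hwsum : w.cycleType.sum = w.cycleType.card * 3 := by
      conv_lhs => rw [hwfull]
      rw [Multiset.sum_replicate, smul_eq_mul]
    have hun := hsum_le u
    have hwn := hsum_le w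
    have hsub : ∀ {x : Perm (Fin n)} {j : ℕ}, x.cycleType = Multiset.replicate x.cycleType.card 3 →
        j ≤ x.cycleType.card → Multiset.replicate j 3 ≤ x.cycleType := fun {x j} hx hj => by
      rw [hx]; exact (Multiset.replicate_mono 3 hj)
    have h51 : (([0, 1, 2] : List (Fin 5)).formPerm).cycleType = Multiset.replicate 1 3 := by
      rw [cycleType_eq_singleton_of_pow Nat.prime_three (by norm_num) (by decide +kernel)
        (by decide +kernel)]; rfl
    have h52 : (([2, 3, 4] : List (Fin 5)).formPerm).cycleType = Multiset.replicate 1 3 := by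
      rw [cycleType_eq_singleton_of_pow Nat.prime_three (by norm_num) (by decide +kernel)
        (by decide +kernel)]; rfl
    have h61 : (([0, 1, 2] : List (Fin 6)).formPerm).cycleType = Multiset.replicate 1 3 := by
      decide +kernel
    have h62 : (([2, 3, 4] : List (Fin 6)).formPerm).cycleType = Multiset.replicate 1 3 := by
      decide +kernel
    have h63 : (([0, 1, 2] : List (Fin 6)).formPerm
        * ([3, 4, 5] : List (Fin 6)).formPerm).cycleType = Multiset.replicate 2 3 := by
      decide +kernel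
    have h64 : (([0, 1, 3] : List (Fin 6)).formPerm
        * ([2, 4, 5] : List (Fin 6)).formPerm).cycleType = Multiset.replicate 2 3 := by
      decide +kernel
    have h65 : (([0, 1, 3] : List (Fin 6)).formPerm
        * ([2, 5, 4] : List (Fin 6)).formPerm).cycleType = Multiset.replicate 2 3 := by
      decide +kernel
    rcases hucard.eq_or_lt with hu1 | hu2 <;> rcases hwcard.eq_or_lt with hw2 | hw2
    · refine exists_good_conj (by simp; omega) _ _ (swap 0 1) (h51 ▸ hsub hufull hucard) ?_
        (h52 ▸ hsub hwfull hwcard) ?_ (Perm.sign_swap (by decide)) good_five_three.1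
        good_five_three.2
      · rw [h51]; simp; omega
      · rw [h52]; simp; omega
    · refine exists_good_conj (by simp; omega) _ _ (swap 0 4) (h61 ▸ hsub hufull hucard) ?_
        (h64 ▸ hsub hwfull hw2) ?_ (Perm.sign_swap (by decide)) good_six_one_two.1
        good_six_one_two.2
      · rw [h61]; simp; omega
      · rw [h64]; simp; omega
    · refine exists_good_conj (by simp; omega) _ _ (swap 0 1) (h63 ▸ hsub hufull hu2) ?_
        (h62 ▸ hsub hwfull hwcard) ?_ (Perm.sign_swap (by decide)) good_six_two_one.1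
        good_six_two_one.2
      · rw [h63]; simp; omega
      · rw [h62]; simp; omega
    · refine exists_good_conj (by simp; omega) _ _ (swap 0 4) (h63 ▸ hsub hufull hu2) ?_
        (h65 ▸ hsub hwfull hw2) ?_ (Perm.sign_swap (by decide)) good_six_two_two.1
        good_six_two_two.2
      · rw [h63]; simp; omega
      · rw [h65]; simp; omega

/-- Two non-trivial `p`-elements of `S_n`, `p` odd, `n ≥ 5`, have conjugates by an even
permutation forming a good pair. -/
theorem exists_good_pair {n : ℕ} (hn : 5 ≤ n) [Fact p.Prime] (hp3 : 3 ≤ p) {u w : Perm (Fin n)}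
    (hu : ∃ k : ℕ, u ^ p ^ k = 1) (hw : ∃ k : ℕ, w ^ p ^ k = 1) (hu1 : u ≠ 1) (hw1 : w ≠ 1) :
    ∃ g : Perm (Fin n), Perm.sign g = 1 ∧ Good p u (g * w * g⁻¹) := by
  have hne : u.cycleType + w.cycleType ≠ 0 := by
    intro h
    exact hu1 (Perm.cycleType_eq_zero.mp (add_eq_zero.mp h).1)
  obtain ⟨L, hL, hmax⟩ : ∃ L ∈ u.cycleType + w.cycleType,
      ∀ x ∈ u.cycleType + w.cycleType, x ≤ L := by
    have hne' : (u.cycleType + w.cycleType).toFinset.Nonempty := by
      obtain ⟨x, hx⟩ := Multiset.exists_mem_of_ne_zero hne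
      exact ⟨x, Multiset.mem_toFinset.mpr hx⟩
    exact ⟨_, Multiset.mem_toFinset.mp (Finset.max'_mem _ hne'),
      fun x hx => Finset.le_max' _ x (Multiset.mem_toFinset.mpr hx)⟩
  rcases Multiset.mem_add.mp hL with h | h
  · exact exists_good_of_max hn hp3 hu hw hw1 h (fun x hx => hmax x (Multiset.mem_add.mpr (.inl hx)))
      (fun x hx => hmax x (Multiset.mem_add.mpr (.inr hx)))
  · obtain ⟨g, hg, hgood⟩ := exists_good_of_max hn hp3 hw hu hu1 h
      (fun x hx => hmax x (Multiset.mem_add.mpr (.inr hx)))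
      (fun x hx => hmax x (Multiset.mem_add.mpr (.inl hx)))
    refine ⟨g⁻¹, by rw [map_inv, hg, inv_one], ?_⟩
    have := (hgood.conj g⁻¹).swap
    have e1 : g⁻¹ * (g * u * g⁻¹) * g⁻¹⁻¹ = u := by group
    rwa [e1] at this

end CfsgLib.AltFreePair
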